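import Groth.Agent.ChevLib.Main
import Mathlib.AlgebraicGeometry.Morphisms.ClosedImmersion

/-!
# Preimages of affine opens along the underlying map of a nilpotent thickening of an affine morphism
-/

set_option autoImplicit false
set_option linter.style.haveILetI false

universe u

open CategoryTheory AlgebraicGeometry TopologicalSpace

namespace NilAffineLib

variable {T Tc U : Scheme.{u}}

/-- A closed immersion with nilpotent ideal is surjective. -/
theorem surjective_of_nil (i : T ⟶ Tc) [IsClosedImmersion i]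
    (hnil : ∃ n : ℕ, ∀ V : Tc.affineOpens, i.ker.ideal V ^ n = ⊥) : Surjective i := by
  obtain ⟨n, hn⟩ := hnil
  refine ⟨fun x => ?_⟩
  have hx : x ∈ (i.ker.support : Set Tc) := by
    rw [Scheme.IdealSheafData.coe_support_eq_eq_iInter_zeroLocus, Set.mem_iInter]
    intro V
    rw [Scheme.mem_zeroLocus_iff]
    intro f hf hxf
    have h0 : f ^ n = 0 := by
      rw [← Ideal.mem_bot, ← hn V]
      exact Ideal.pow_mem_pow hf n
    have hnf : IsNilpotent f := ⟨n, h0⟩
    have hxV := Tc.basicOpen_le f hxf
    rw [Scheme.mem_basicOpen _ f x hxV] at hxf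
    exact (hnf.map (Tc.presheaf.germ V.1 x hxV).hom).not_isUnit hxf
  rw [Scheme.Hom.support_ker, i.isClosedEmbedding.isClosed_range.closure_eq] at hx
  exact hx

/-- The preimage of an affine open is affine. -/
theorem isAffineOpen_preimage (i : T ⟶ Tc) [IsClosedImmersion i]
    (hnil : ∃ n : ℕ, ∀ V : Tc.affineOpens, i.ker.ideal V ^ n = ⊥) (u : T ⟶ U) [IsAffineHom u]
    (g : Tc.carrier ⟶ U.carrier) (hg : i.base ≫ g = u.base) {W : U.Opens} (hW : IsAffineOpen W) :
    IsAffineOpen ((Opens.map g).obj W : Tc.Opens) := by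
  haveI := surjective_of_nil i hnil
  let V : Tc.Opens := (Opens.map g).obj W
  have h : i ⁻¹ᵁ V = u ⁻¹ᵁ W := by
    ext x
    change g (i.base x) ∈ W ↔ u.base x ∈ W
    rw [← hg]
    rfl
  haveI : IsAffine (i ⁻¹ᵁ V).toScheme := by
    rw [h]
    exact hW.preimage u
  haveI : Surjective (i ∣_ V) := IsZariskiLocalAtTarget.restrict ‹Surjective i› V
  exact ChevLib.isAffine_of_surjective_universallyClosed (i ∣_ V)

end NilAffineLib
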